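import Cfsg.Agent.ClassFitting.Small

/-!
# The bound for completely reducible solvable groups

All subgroups of a solvable group acting faithfully and completely reducibly on a group of order
`N` have at most `N ^ 2 / 2` classes; for `N = M ^ 2` at most `3 ^ (M - 1)`.
-/

set_option autoImplicit false
set_option maxHeartbeats 800000
set_option linter.unusedSectionVars false
set_option linter.style.haveILetI false

namespace CfsgLib.ClassFitting

open SolvKGV

universe u

theorem prod_half {r : ℕ} (c N : Fin r → ℕ) (h : ∀ i, 2 * c i ≤ N i ^ 2) (hr : 1 ≤ r) :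
    2 * (2 ^ (r - 1) * ∏ i, c i) ≤ (∏ i, N i) ^ 2 := by
  have h1 : ∏ i, (2 * c i) ≤ ∏ i, N i ^ 2 := Finset.prod_le_prod' fun i _ => h i
  rw [Finset.prod_mul_distrib, Finset.prod_const, Finset.card_univ, Fintype.card_fin,
    Finset.prod_pow] at h1
  rw [← mul_assoc, ← pow_succ', show r - 1 + 1 = r by omega]
  exact h1

theorem pow_six_le {M : ℕ} (hM : 6 ≤ M) : M ^ 6 ≤ 2 * 9 ^ (M - 1) := by
  induction M, hM using Nat.le_induction with
  | base => norm_num
  | succ M hM ih =>
    obtain ⟨j, rfl⟩ : ∃ j, M = j + 1 := ⟨M - 1, by omega⟩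
    simp only [add_tsub_cancel_right] at ih ⊢
    have h : 5 * (j + 1 + 1) ≤ 6 * (j + 1) := by omega
    have := Nat.pow_le_pow_left h 6
    rw [mul_pow, mul_pow] at this
    rw [pow_succ 9]
    omega

theorem pow_four_le'' {M : ℕ} (hM : 8 ≤ M) : M ^ 4 ≤ 2 * 3 ^ (M - 1) := by
  induction M, hM using Nat.le_induction with
  | base => norm_num
  | succ M hM ih =>
    obtain ⟨j, rfl⟩ : ∃ j, M = j + 1 := ⟨M - 1, by omega⟩
    simp only [add_tsub_cancel_right] at ih ⊢
    have h : 8 * (j + 1 + 1) ≤ 9 * (j + 1) := by omega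
    have := Nat.pow_le_pow_left h 4
    rw [mul_pow, mul_pow] at this
    rw [pow_succ 3]
    omega

/-- The numerical inequality of the inner case. -/
theorem inner_half {q e a M m b : ℕ} (hq : 2 * e ≤ q) (ha : a < q) (hM : 2 ≤ M) (hm : M ≤ m)
    (he : 1 ≤ e) (h3 : 3 ≤ q) (h2a : 2 * e * a * (4 * 3) ≤ q ^ 4) (hq5 : M = 3 → 4 ≤ q)
    (h1 : M = 2 → b ≤ 3) (hb3 : M = 3 → b ≤ 9) (h4 : M = 4 → b ≤ 27) (h5 : M = 5 → b ≤ 27)
    (h6 : 6 ≤ M → 2 * b ≤ M ^ 4) :
    2 * (e * (b * (a * M ^ 2))) ≤ (q ^ m) ^ 2 := by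
  have hqm : q ^ (2 * M) ≤ (q ^ m) ^ 2 := by
    rw [← pow_mul]; exact Nat.pow_le_pow_right (by omega) (by omega)
  refine le_trans ?_ hqm
  have hea : 2 * e * a ≤ q ^ 2 := by
    rw [sq]; exact Nat.mul_le_mul hq ha.le
  have key : ∀ C, b * M ^ 2 ≤ C → C ≤ q ^ (2 * M - 2) →
      2 * (e * (b * (a * M ^ 2))) ≤ q ^ (2 * M) := by
    intro C hC hC'
    calc 2 * (e * (b * (a * M ^ 2))) = 2 * e * a * (b * M ^ 2) := by ring
      _ ≤ q ^ 2 * q ^ (2 * M - 2) := Nat.mul_le_mul hea (hC.trans hC')
      _ = _ := by rw [← pow_add]; congr 1; omega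
  rcases (by omega : M = 2 ∨ M = 3 ∨ M = 4 ∨ M = 5 ∨ 6 ≤ M) with rfl | rfl | rfl | rfl | h
  · calc 2 * (e * (b * (a * 2 ^ 2))) = 2 * e * a * (4 * b) := by ring
      _ ≤ 2 * e * a * (4 * 3) :=
        Nat.mul_le_mul_left _ (Nat.mul_le_mul_left _ (h1 rfl))
      _ ≤ _ := h2a
  · refine key 81 (by have := hb3 rfl; omega) ?_
    exact le_trans (by norm_num) (Nat.pow_le_pow_left (hq5 rfl) _)
  · refine key 432 (by have := h4 rfl; omega) ?_
    exact le_trans (by norm_num) (Nat.pow_le_pow_left h3 _)
  · refine key 675 (by have := h5 rfl; omega) ?_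
    exact le_trans (by norm_num) (Nat.pow_le_pow_left h3 _)
  · refine key (9 ^ (M - 1)) ?_ ?_
    · have h7 := Nat.mul_le_mul_right (M ^ 2) (h6 h)
      have h8 := pow_six_le h
      rw [← pow_add, mul_assoc, show 4 + 2 = 6 from rfl] at h7
      omega
    · rw [show (9 : ℕ) = 3 ^ 2 by norm_num, ← pow_mul, show 2 * (M - 1) = 2 * M - 2 by omega]
      exact Nat.pow_le_pow_left h3 _

/-- At most `N ^ 2 / 2` classes. -/
theorem subK_half : ∀ (N : ℕ) {H : Type u} [Group H] [Finite H] [Group.IsSolvable H]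
    {V : Type u} [AddCommGroup V] [DistribMulAction H V] [Finite V],
    Nat.card V = N → 1 < N → Semi H V → Faith H V → SubK H (N ^ 2 / 2) := by
  intro N
  induction N using Nat.strong_induction_on with
  | _ N ih =>
    intro H _ _ _ V _ _ _ hN h1 hs hf
    haveI : Nontrivial V := Finite.one_lt_card_iff_nontrivial.1 (hN ▸ h1)
    by_cases hd : ∃ r, Nonempty (Decomp H V r)
    · obtain ⟨r, ⟨D⟩⟩ := hd
      refine (subK_decomp hf D (fun i => Nat.card (D.part i) ^ 2 / 2) fun i => ?_).mono ?_
      · haveI := D.isSolvable_map i ⊤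
        exact ih _ (hN ▸ D.card_part_lt i) rfl (D.one_lt_card_part i) (D.semi_rep hs i ⊤)
          (faith_units _)
      · rw [← hN, D.card_eq, Nat.le_div_iff_mul_le two_pos, mul_comm]
        exact prod_half _ _ (fun i => Nat.mul_div_le _ 2) (le_trans (by norm_num) D.two)
    · obtain ⟨P⟩ := exists_prim (fun r D => hd ⟨r, ⟨D⟩⟩) hs hf
      have he := P.e_pos
      have hqe := Numeric.two_mul_le P.prime.two_le rfl he
      rw [← hN, P.card_eq, pow_mul]
      by_cases hC : Subgroup.centralizer (P.A : Set H) = P.A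
      · refine (subK_abelian P hC).mono ?_
        rw [Nat.le_div_iff_mul_le two_pos, ← pow_mul P.p, mul_comm, ← mul_assoc]
        exact Numeric.abelian_class P.prime.two_le he P.m_pos P.card_lt
      · obtain ⟨I⟩ := exists_inner P hC
        have hMm := I.le_m
        have hM2 := I.two_le
        haveI := isSolvable_range (H := Subgroup.centralizer (P.A : Set H)) I.f
        have hdivA : ∀ t : ℕ, t.Prime → t ∣ I.M → t < P.p ^ P.e := fun t ht htM =>
          lt_of_le_of_lt (Nat.le_of_dvd P.card_pos_A (I.prime_dvd t ht htM)) P.card_lt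
        have h3 : 3 ≤ P.p ^ P.e := by
          obtain ⟨t, ht, htM⟩ := Nat.exists_prime_and_dvd (show I.M ≠ 1 by omega)
          have := hdivA t ht htM
          have := ht.two_le
          omega
        have hW : I.M ^ 2 < N := by
          rw [← hN, P.card_eq, pow_mul]
          calc I.M ^ 2 ≤ P.m ^ 2 := Nat.pow_le_pow_left hMm 2
            _ < 3 ^ P.m := by
              have hm2 := hM2.trans hMm
              clear * - hm2
              generalize P.m = m at hm2 ⊢
              induction m, hm2 using Nat.le_induction with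
              | base => norm_num
              | succ m hm ihm => rw [pow_succ 3]; nlinarith
            _ ≤ _ := Nat.pow_le_pow_left h3 _
        obtain ⟨b, hb, h2, hb3, h4, h5, h6⟩ : ∃ b, SubK I.f.range b ∧ (I.M = 2 → b ≤ 3) ∧
            (I.M = 3 → b ≤ 9) ∧ (I.M = 4 → b ≤ 27) ∧ (I.M = 5 → b ≤ 27) ∧
            (6 ≤ I.M → 2 * b ≤ I.M ^ 4) := by
          rcases (by omega : I.M = 2 ∨ I.M = 3 ∨ I.M = 4 ∨ I.M = 5 ∨ 6 ≤ I.M) with
            h | h | h | h | h
          · exact ⟨3, subK_four (V := I.W) (faith_units _) (by rw [I.card_W, h]; rfl),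
              by omega, by omega, by omega, by omega, by omega⟩
          · exact ⟨9, subK_nine (V := I.W) (faith_units _) (by rw [I.card_W, h]; rfl),
              by omega, by omega, by omega, by omega, by omega⟩
          · exact ⟨27, subK_sixteen (V := I.W) I.semi (faith_units _) (by rw [I.card_W, h]; rfl),
              by omega, by omega, by omega, by omega, by omega⟩
          · exact ⟨5 ^ 2 + 5 - 3, subK_sq_prime (V := I.W) (faith_units _) Nat.prime_five
              (by rw [I.card_W, h]), by omega, by omega, by omega, by norm_num, by omega⟩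
          · refine ⟨(I.M ^ 2) ^ 2 / 2, ih _ hW I.card_W (by nlinarith) I.semi (faith_units _),
              by omega, by omega, by omega, by omega, fun _ => ?_⟩
            rw [← pow_mul]
            exact Nat.mul_div_le _ 2
        refine (subK_inner I hb).mono ?_
        rw [Nat.le_div_iff_mul_le two_pos, mul_comm]
        refine inner_half hqe P.card_lt hM2 hMm he h3 ?_ (fun h => hdivA 3 Nat.prime_three
          (by rw [h])) h2 hb3 h4 h5 h6
        set q := P.p ^ P.e
        set a := Nat.card P.A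
        have ha : a < q := P.card_lt
        rcases (by omega : q = 3 ∨ 4 ≤ q) with hq | hq
        · rw [hq] at hqe ha ⊢
          have : 2 * P.e * a ≤ 2 * 1 * 2 := Nat.mul_le_mul (Nat.mul_le_mul_left _ (by omega))
            (by omega)
          omega
        · calc 2 * P.e * a * (4 * 3) ≤ q * q * (q * q) :=
              Nat.mul_le_mul (Nat.mul_le_mul hqe ha.le)
                (le_trans (by norm_num) (Nat.mul_le_mul hq hq))
            _ = _ := by ring

/-- At most `3 ^ (M - 1)` classes on a group of order `M ^ 2`. -/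
theorem subK_three_pow {H : Type u} [Group H] [Finite H] [Group.IsSolvable H] {V : Type u}
    [AddCommGroup V] [DistribMulAction H V] [Finite V] (hs : Semi H V) (hf : Faith H V) {M : ℕ}
    (hM : 2 ≤ M) (hV : Nat.card V = M ^ 2) : SubK H (3 ^ (M - 1)) := by
  rcases (by omega : M = 2 ∨ M = 3 ∨ M = 4 ∨ M = 5 ∨ M = 6 ∨ M = 7 ∨ 8 ≤ M) with
    rfl | rfl | rfl | rfl | rfl | rfl | h
  · exact (subK_four hf hV).mono (by norm_num)
  · exact (subK_nine hf hV).mono (by norm_num)
  · exact (subK_sixteen hs hf hV).mono (by norm_num)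
  · exact (subK_sq_prime hf Nat.prime_five hV).mono (by norm_num)
  · exact (subK_thirtySix hf hV).mono (by norm_num)
  · exact (subK_sq_prime hf (by norm_num : Nat.Prime 7) hV).mono (by norm_num)
  · refine (subK_half _ hV (Nat.one_lt_pow two_ne_zero (by omega)) hs hf).mono ?_
    rw [← pow_mul]
    have := pow_four_le'' h
    show M ^ 4 / 2 ≤ _
    omega

end CfsgLib.ClassFitting
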