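import Cfsg.Agent.ClassFitting.General
import Cfsg.Agent.Solvable.Fitting

/-!
# Classes modulo the Fitting subgroup

A solvable group acting faithfully and completely reducibly on a group of order `p ^ d`: every
subgroup of its quotient by the Fitting subgroup has at most `3 ^ (d - 1)` classes.
-/

set_option autoImplicit false
set_option maxHeartbeats 800000
set_option linter.unusedSectionVars false
set_option linter.style.haveILetI false

namespace CfsgLib.ClassFitting

open SolvKGV

universe u

/-- Quotients by larger normal subgroups. -/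
theorem SubK.quotient {G : Type*} [Group G] [Finite G] {N M : Subgroup G} [N.Normal] [M.Normal]
    (h : N ≤ M) {b : ℕ} (hb : SubK (G ⧸ N) b) : SubK (G ⧸ M) b :=
  hb.of_surjective (f := QuotientGroup.map N M (MonoidHom.id G) h)
    fun x => QuotientGroup.induction_on x fun g => ⟨(g : G ⧸ N), rfl⟩

/-- The quotient by the kernel. -/
theorem subK_quotient_ker {G G' : Type*} [Group G] [Finite G] [Group G'] [Finite G'] (f : G →* G')
    {b : ℕ} (hb : SubK f.range b) : SubK (G ⧸ f.ker) b :=
  hb.of_injective (f := (QuotientGroup.quotientKerEquivRange f).toMonoidHom)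
    (QuotientGroup.quotientKerEquivRange f).injective

/-- Images of quotients. -/
theorem subK_range {G G' : Type*} [Group G] [Finite G] [Group G'] [Finite G'] (f : G →* G')
    {N : Subgroup G} [N.Normal] (hN : N ≤ f.ker) {b : ℕ} (hb : SubK (G ⧸ N) b) : SubK f.range b := by
  refine hb.of_surjective (f := QuotientGroup.lift N f.rangeRestrict (fun x hx => ?_))
    fun x => ?_
  · exact MonoidHom.mem_ker.2 (Subtype.ext (MonoidHom.mem_ker.1 (hN hx)))
  · obtain ⟨_, g, rfl⟩ := x
    exact ⟨(g : G ⧸ N), rfl⟩

/-- A normal nilpotent subgroup of a normal subgroup. -/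
theorem map_fitting_le {G : Type*} [Group G] [Finite G] (K : Subgroup G) [K.Normal] :
    ((Cfsg.fittingSubgroup K).map K.subtype).Normal ∧
      (Cfsg.fittingSubgroup K).map K.subtype ≤ Cfsg.fittingSubgroup G := by
  haveI := Solvable.fittingSubgroup_characteristic (G := K)
  haveI := Solvable.fittingSubgroup_isNilpotent (G := K)
  haveI : ((Cfsg.fittingSubgroup K).map K.subtype).Normal := inferInstance
  exact ⟨inferInstance, Solvable.le_fittingSubgroup (Group.nilpotent_of_surjective _
    (MonoidHom.subgroupMap_surjective K.subtype (Cfsg.fittingSubgroup K)))⟩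

variable {H : Type u} [Group H] [Finite H] {V : Type u} [AddCommGroup V] [DistribMulAction H V]
  [Finite V]

/-- The decomposition step. -/
theorem subK_fitting_decomp [(Cfsg.fittingSubgroup H).Normal] (hf : Faith H V) {r : ℕ}
    (D : Decomp H V r) (c : Fin r → ℕ)
    (hc : ∀ i, ∀ [(Cfsg.fittingSubgroup ↥((⊤ : Subgroup D.perm.ker).map (D.rep i))).Normal],
      SubK (↥((⊤ : Subgroup D.perm.ker).map (D.rep i)) ⧸
        Cfsg.fittingSubgroup ↥((⊤ : Subgroup D.perm.ker).map (D.rep i))) (c i)) :
    SubK (H ⧸ Cfsg.fittingSubgroup H) (2 ^ (r - 1) * ∏ i, c i) := by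
  obtain ⟨hN, hNle⟩ := map_fitting_le D.perm.ker
  haveI := hN
  haveI := Solvable.fittingSubgroup_normal (G := D.perm.ker)
  set F0 := Cfsg.fittingSubgroup D.perm.ker
  set N := F0.map D.perm.ker.subtype with hNdef
  refine SubK.quotient hNle ?_
  have hNk : N ≤ D.perm.ker := Subgroup.map_subtype_le _
  refine SubK.of_hom (QuotientGroup.lift N D.perm fun x hx => hNk hx)
    (subK_perm.of_injective (Subgroup.subtype_injective _)) ?_
  set φ : D.perm.ker →* H ⧸ N := (QuotientGroup.mk' N).comp D.perm.ker.subtype with hφ
  have hrange : φ.range = (QuotientGroup.lift N D.perm fun x hx => hNk hx).ker := by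
    rw [QuotientGroup.ker_lift, hφ, MonoidHom.range_comp, Subgroup.range_subtype]
  rw [← hrange]
  refine subK_range φ (N := F0) (fun x hx => ?_) ?_
  · exact MonoidHom.mem_ker.2 ((QuotientGroup.eq_one_iff _).2 ⟨x, hx, rfl⟩)
  let E : Fin r → Subgroup _ := fun _ => (⊤ : Subgroup D.perm.ker)
  haveI : ∀ i, (Cfsg.fittingSubgroup ↥((E i).map (D.rep i))).Normal := fun _ =>
    Solvable.fittingSubgroup_normal
  let ψ : ∀ i, D.perm.ker →* ↥((E i).map (D.rep i)) := fun i =>
    (D.rep i).codRestrict ((E i).map (D.rep i)) fun x => ⟨x, Subgroup.mem_top x, rfl⟩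
  let Ψ : D.perm.ker →* ∀ i, ↥((E i).map (D.rep i)) ⧸ Cfsg.fittingSubgroup ↥((E i).map (D.rep i)) :=
    Pi.monoidHom fun i => (QuotientGroup.mk' _).comp (ψ i)
  refine SubK.quotient (N := Ψ.ker) (M := F0) ?_
    (subK_quotient_ker Ψ ((subK_pi r c fun i => hc i).of_injective (Subgroup.subtype_injective _)))
  -- the kernel is nilpotent
  haveI : ∀ i, Group.IsNilpotent ↥(Cfsg.fittingSubgroup ↥((E i).map (D.rep i))) := fun _ =>
    Solvable.fittingSubgroup_isNilpotent
  refine Solvable.le_fittingSubgroup ?_
  let χ : Ψ.ker →* ∀ i, ↥(Cfsg.fittingSubgroup ↥((E i).map (D.rep i))) :=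
    Pi.monoidHom fun i => ((ψ i).comp Ψ.ker.subtype).codRestrict _ fun x =>
      (QuotientGroup.eq_one_iff _).1 (congrFun (x.2 : Ψ x = 1) i)
  refine isNilpotent_of_ker_le_center χ (fun x hx => ?_)
  have hx' : (x : D.perm.ker) = 1 := D.rep_faith hf _ fun i => by
    exact congrArg Subtype.val (congrArg Subtype.val (congrFun (hx : χ x = 1) i))
  rw [show x = 1 from Subtype.ext hx']
  exact one_mem _

/-- The self-centralising step. -/
theorem subK_fitting_abelian [(Cfsg.fittingSubgroup H).Normal] (P : Prim H V)
    (hC : Subgroup.centralizer (P.A : Set H) = P.A) :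
    SubK (H ⧸ Cfsg.fittingSubgroup H) P.e := by
  haveI := P.normalA
  haveI : Group.IsNilpotent P.A :=
    letI : CommGroup P.A :=
      { (inferInstance : Group P.A) with mul_comm := fun a b => Subtype.ext (P.comm a a.2 b b.2) }
    inferInstance
  refine SubK.quotient (N := P.A) (Solvable.le_fittingSubgroup inferInstance) (subK_of_card_le ?_)
  rw [← Subgroup.index_eq_card]
  have h := P.index_le
  rwa [hC] at h

theorem inner_nilpotent {P : Prim H V} (I : Inner P) : Group.IsNilpotent I.B := by
  haveI : (Subgroup.center I.B).Normal := inferInstance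
  letI : CommGroup (I.B ⧸ Subgroup.center I.B) :=
    { (inferInstance : Group (I.B ⧸ Subgroup.center I.B)) with
      mul_comm := fun a b => by
        induction a using QuotientGroup.induction_on with | H a => ?_
        induction b using QuotientGroup.induction_on with | H b => ?_
        rw [← QuotientGroup.mk_mul, ← QuotientGroup.mk_mul, QuotientGroup.eq]
        refine Subgroup.mem_center_iff.2 fun y => Subtype.ext ?_
        have h1 : ((a * b)⁻¹ * (b * a) : I.B) = b⁻¹ * a⁻¹ * (b⁻¹)⁻¹ * (a⁻¹)⁻¹ := by group
        have h2 : (((a * b)⁻¹ * (b * a) : I.B) : H) ∈ P.A := by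
          rw [h1]
          exact I.com _ (b⁻¹).2 _ (a⁻¹).2
        exact (Subgroup.mem_centralizer_iff.1 (I.BC y.2) _ h2).symm }
  exact isNilpotent_of_ker_le_center (QuotientGroup.mk' (Subgroup.center I.B))
    (QuotientGroup.ker_mk' _).le

/-- The inner step. -/
theorem subK_fitting_inner [Group.IsSolvable H] [(Cfsg.fittingSubgroup H).Normal] {P : Prim H V}
    (I : Inner P) {b : ℕ} (h : SubK I.f.range b) :
    SubK (H ⧸ Cfsg.fittingSubgroup H) (P.e * b) := by
  haveI := I.normalB
  haveI := P.normalA
  set C := Subgroup.centralizer (P.A : Set H) with hC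
  haveI : C.Normal := inferInstance
  refine SubK.quotient (N := I.B) (Solvable.le_fittingSubgroup (inner_nilpotent I)) ?_
  have hBC : I.B ≤ C.comap (MonoidHom.id H) := by rw [Subgroup.comap_id]; exact I.BC
  refine SubK.of_hom (QuotientGroup.map I.B C (MonoidHom.id H) hBC)
    ((subK_of_card_le P.card_quot).of_injective (Subgroup.subtype_injective _)) ?_
  set φ : C →* H ⧸ I.B := (QuotientGroup.mk' I.B).comp C.subtype with hφ
  have hrange : φ.range = (QuotientGroup.map I.B C (MonoidHom.id H) hBC).ker := by
    rw [QuotientGroup.ker_map, hφ, MonoidHom.range_comp, Subgroup.range_subtype,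
      Subgroup.comap_id]
  rw [← hrange]
  refine subK_range φ (N := I.f.ker) (fun x hx => ?_) (subK_quotient_ker I.f h)
  rw [I.ker_f] at hx
  exact MonoidHom.mem_ker.2 ((QuotientGroup.eq_one_iff _).2 hx)

theorem le_three_pow (e : ℕ) (he : 1 ≤ e) : e ≤ 3 ^ (e - 1) := by
  have := Nat.lt_pow_self (n := e - 1) (by norm_num : 1 < 3)
  omega

/-- **Classes modulo the Fitting subgroup.** -/
theorem subK_fitting {p : ℕ} (hp : p.Prime) : ∀ (d : ℕ) {H : Type u} [Group H] [Finite H]
    [Group.IsSolvable H] [(Cfsg.fittingSubgroup H).Normal]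
    {V : Type u} [AddCommGroup V] [DistribMulAction H V] [Finite V],
    Nat.card V = p ^ d → 1 ≤ d → Semi H V → Faith H V →
      SubK (H ⧸ Cfsg.fittingSubgroup H) (3 ^ (d - 1)) := by
  intro d
  induction d using Nat.strong_induction_on with
  | _ d ih =>
    intro H _ _ _ _ V _ _ _ hV h1 hs hf
    haveI : Nontrivial V := Finite.one_lt_card_iff_nontrivial.1
      (hV ▸ Nat.one_lt_pow (by omega) hp.one_lt)
    by_cases hd : ∃ r, Nonempty (Decomp H V r)
    · obtain ⟨r, ⟨D⟩⟩ := hd
      have hex : ∀ i, ∃ k, k ≤ d ∧ Nat.card (D.part i) = p ^ k := fun i => by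
        have h := card_part_dvd D i
        rw [hV] at h
        exact (Nat.dvd_prime_pow hp).1 h
      choose k hkd hk using hex
      have hk1 : ∀ i, 1 ≤ k i := fun i => by
        have h := D.one_lt_card_part i
        rw [hk i] at h
        by_contra hlt
        rw [show k i = 0 by omega, pow_zero] at h
        omega
      have hklt : ∀ i, k i < d := fun i => by
        have h := D.card_part_lt i
        rw [hk i, hV] at h
        exact (Nat.pow_lt_pow_iff_right hp.one_lt).1 h
      refine (subK_fitting_decomp hf D (fun i => 3 ^ (k i - 1)) fun i => ?_).mono ?_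
      · intro _
        haveI := D.isSolvable_map i ⊤
        exact ih _ (hklt i) (hk i) (hk1 i) (D.semi_rep hs i ⊤) (faith_units _)
      · have hsum : ∑ i, k i = d := by
          refine Nat.pow_right_injective hp.two_le ?_
          show p ^ _ = p ^ d
          rw [← Finset.prod_pow_eq_pow_sum, ← hV, D.card_eq]
          exact Finset.prod_congr rfl fun i _ => (hk i).symm
        have hsum' : ∑ i, (k i - 1) + r = d := by
          rw [← hsum]
          calc ∑ i, (k i - 1) + r = ∑ i, (k i - 1 + 1) := by
                rw [Finset.sum_add_distrib]; simp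
            _ = _ := Finset.sum_congr rfl fun i _ => by have := hk1 i; omega
        rw [Finset.prod_pow_eq_pow_sum]
        calc 2 ^ (r - 1) * 3 ^ ∑ i, (k i - 1) ≤ 3 ^ (r - 1) * 3 ^ ∑ i, (k i - 1) :=
              Nat.mul_le_mul_right _ (Nat.pow_le_pow_left (by norm_num) _)
          _ = _ := by
              rw [← pow_add]; congr 1
              have := D.two
              omega
    · obtain ⟨P⟩ := exists_prim (fun r D => hd ⟨r, ⟨D⟩⟩) hs hf
      have hem : P.e * P.m = d := by
        have h := P.card_eq
        rw [hV] at h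
        have hpp : P.p = p := by
          have h2 : p ∣ P.p ^ (P.e * P.m) := h ▸ dvd_pow_self p (by omega)
          exact ((Nat.prime_dvd_prime_iff_eq hp P.prime).1 (hp.dvd_of_dvd_pow h2)).symm
        rw [hpp] at h
        exact (Nat.pow_right_injective hp.two_le h).symm
      have he := P.e_pos
      have hm := P.m_pos
      by_cases hC : Subgroup.centralizer (P.A : Set H) = P.A
      · refine (subK_fitting_abelian P hC).mono ((le_three_pow _ he).trans
          (Nat.pow_le_pow_right (by norm_num) ?_))
        have : P.e ≤ P.e * P.m := Nat.le_mul_of_pos_right _ hm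
        omega
      · obtain ⟨I⟩ := exists_inner P hC
        haveI := isSolvable_range (H := Subgroup.centralizer (P.A : Set H)) I.f
        refine (subK_fitting_inner I (subK_three_pow I.semi (faith_units _) I.two_le I.card_W)).mono
          ((Nat.mul_le_mul_right _ (le_three_pow _ he)).trans ?_)
        rw [← pow_add]
        refine Nat.pow_le_pow_right (by norm_num) ?_
        have h2 := I.two_le
        have hMm := I.le_m
        rcases (by omega : P.e = 1 ∨ 2 ≤ P.e) with e | e
        · rw [e, one_mul] at hem
          omega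
        · have : 2 * P.m ≤ P.e * P.m := Nat.mul_le_mul_right _ e
          have : P.e * 2 ≤ P.e * P.m := Nat.mul_le_mul_left _ (by omega)
          omega

end CfsgLib.ClassFitting
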