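import Mathlib

/-!
# Reduction of a finite complex linear group modulo a prime

A finite group with a faithful complex representation of degree `r` has a faithful representation
of degree `r` over `ZMod ℓ` for some prime `ℓ` not dividing its order.
-/

set_option autoImplicit false
set_option maxHeartbeats 400000
set_option linter.style.haveILetI false

namespace CfsgLib.ClassFitting

open Polynomial

/-- A monic polynomial over `ℤ` has a root modulo some prime not dividing `N`. -/
theorem exists_prime_root_mod {f : ℤ[X]} (hf : f.Monic) (hd : f.natDegree ≠ 0) {N : ℕ}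
    (hN : N ≠ 0) : ∃ l : ℕ, l.Prime ∧ ¬ l ∣ N ∧ ∃ x : ℤ, (l : ℤ) ∣ f.eval x := by
  set a := f.eval 0 with ha
  by_cases ha0 : a = 0
  · obtain ⟨l, hl, hlp⟩ := Nat.exists_infinite_primes (N + 1)
    exact ⟨l, hlp, fun h => absurd (Nat.le_of_dvd (Nat.pos_of_ne_zero hN) h) (by omega), 0,
      by rw [← ha, ha0]; exact dvd_zero _⟩
  obtain ⟨t, ht⟩ : ∃ t : ℤ, f.eval (a * N * t) ≠ a ∧ f.eval (a * N * t) ≠ -a := by
    have hne : ∀ c : ℤ, f - C c ≠ 0 := fun c h => hd (by
      rw [sub_eq_zero.1 h, natDegree_C])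
    have hfin : {t : ℤ | f.eval (a * N * t) = a ∨ f.eval (a * N * t) = -a}.Finite := by
      refine ((finite_setOf_isRoot (hne a)).union (finite_setOf_isRoot (hne (-a)))).preimage
        (f := fun t : ℤ => a * N * t) ?_ |>.subset ?_
      · exact fun x _ y _ e => mul_left_cancel₀ (mul_ne_zero ha0 (by exact_mod_cast hN)) e
      · rintro t (h | h)
        · left; simp [h]
        · right; simp [h]
    obtain ⟨t, ht⟩ := hfin.infinite_compl.nonempty
    exact ⟨t, fun h => ht (Or.inl h), fun h => ht (Or.inr h)⟩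
  set g := f.divX.eval (a * N * t)
  have hval : f.eval (a * N * t) = a * (1 + N * (t * g)) := by
    conv_lhs => rw [← X_mul_divX_add f]
    rw [eval_add, eval_mul, eval_X, eval_C, coeff_zero_eq_eval_zero, ← ha]
    ring
  set k := 1 + (N : ℤ) * (t * g)
  have hk : k.natAbs ≠ 1 := by
    intro h
    rcases Int.natAbs_eq k with e | e <;> rw [h] at e <;> rw [e] at hval
    · exact ht.1 (by simpa using hval)
    · exact ht.2 (by simpa using hval)
  obtain ⟨l, hl, hlk⟩ := Nat.exists_prime_and_dvd hk
  have hlk' : (l : ℤ) ∣ k := Int.natCast_dvd.2 hlk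
  refine ⟨l, hl, fun hlN => ?_, a * N * t, hval ▸ dvd_mul_of_dvd_right hlk' _⟩
  have h1 : (l : ℤ) ∣ 1 := by
    have h := (Int.natCast_dvd_natCast.2 hlN).mul_right (t * g)
    simpa [k] using dvd_sub hlk' h
  exact hl.ne_one (by exact_mod_cast Int.eq_one_of_dvd_one (by positivity) h1)

/-- Reduction keeps faithfulness if the residue characteristic does not divide the order. -/
theorem injective_mapMatrix {G : Type*} [Group G] [Finite G] {n : Type*} [Fintype n] [DecidableEq n]
    {R F : Type*} [CommRing R] [IsDomain R] [Field F] (f : R →+* F) (τ : G →* Matrix n n R)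
    (hτ : Function.Injective τ) (hG : (Nat.card G : F) ≠ 0) :
    Function.Injective (f.mapMatrix.toMonoidHom.comp τ) := by
  refine (injective_iff_map_eq_one _).2 fun g hg => hτ ?_
  rw [map_one]
  set A := τ g
  have hAf : f.mapMatrix A = 1 := hg
  have hAn : A ^ Nat.card G = 1 := by rw [← map_pow, pow_card_eq_one', map_one]
  have hdet : (∑ i ∈ Finset.range (Nat.card G), A ^ i).det ≠ 0 := by
    intro h
    have h1 := congrArg f h
    rw [RingHom.map_det, map_zero, map_sum] at h1
    simp only [map_pow, hAf, one_pow, Finset.sum_const, Finset.card_range] at h1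
    rw [← Nat.cast_smul_eq_nsmul F, Matrix.det_smul, Matrix.det_one, mul_one] at h1
    exact pow_ne_zero _ hG h1
  have h0 : (A - 1) * ∑ i ∈ Finset.range (Nat.card G), A ^ i = 0 := by
    rw [mul_geom_sum, hAn, sub_self]
  have h2 := congrArg (· * (∑ i ∈ Finset.range (Nat.card G), A ^ i).adjugate) h0
  simp only [zero_mul] at h2
  rw [mul_assoc, Matrix.mul_adjugate, mul_smul_comm, mul_one] at h2
  exact sub_eq_zero.1 ((smul_eq_zero.1 h2).resolve_left hdet)

/-- Realisation over a number field. -/
theorem exists_number_field_rep {G : Type*} [Group G] [Finite G] {r : ℕ}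
    (R : G →* Matrix (Fin r) (Fin r) ℂ) (hR : Function.Injective R) :
    ∃ (K : Type) (_ : Field K) (_ : Algebra ℚ K) (_ : FiniteDimensional ℚ K)
      (ρ : G →* Matrix (Fin r) (Fin r) K), Function.Injective ρ := by
  classical
  haveI := Fintype.ofFinite G
  let S := Algebra.adjoin ℚ (Set.range fun x : G × Fin r × Fin r => R x.1 x.2.1 x.2.2)
  have hmem : ∀ g i j, R g i j ∈ S := fun g i j => Algebra.subset_adjoin ⟨(g, i, j), rfl⟩
  let τ : G →* Matrix (Fin r) (Fin r) S :=
    { toFun := fun g => Matrix.of fun i j => ⟨R g i j, hmem g i j⟩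
      map_one' := by
        ext i j
        show R 1 i j = ((1 : Matrix (Fin r) (Fin r) S) i j : ℂ)
        rw [map_one]
        by_cases h : i = j <;> simp [Matrix.one_apply, h]
      map_mul' := fun a b => by
        ext i j
        show R (a * b) i j = _
        rw [map_mul, Matrix.mul_apply, Matrix.mul_apply]
        simp }
  have hτ : Function.Injective τ := fun a b h => hR (by
    ext i j
    exact congrArg Subtype.val (congrFun (congrFun h i) j))
  haveI : Algebra.FiniteType ℚ S :=
    (Subalgebra.fg_iff_finiteType S).1 ⟨(Finset.univ : Finset (G × Fin r × Fin r)).image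
      fun x => R x.1 x.2.1 x.2.2, by simp [S]⟩
  obtain ⟨m, hm⟩ := Ideal.exists_maximal S
  letI : Field (S ⧸ m) := Ideal.Quotient.field m
  haveI : Algebra.FiniteType ℚ (S ⧸ m) :=
    Algebra.FiniteType.of_surjective (Ideal.Quotient.mkₐ ℚ m) Ideal.Quotient.mk_surjective
  haveI : Module.Finite ℚ (S ⧸ m) := finite_of_finite_type_of_isJacobsonRing _ _
  refine ⟨S ⧸ m, inferInstance, inferInstance, inferInstance,
    (Ideal.Quotient.mk m).mapMatrix.toMonoidHom.comp τ, injective_mapMatrix _ τ hτ ?_⟩
  rw [← map_natCast (algebraMap ℚ (S ⧸ m))]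
  exact (map_ne_zero_iff _ (algebraMap ℚ (S ⧸ m)).injective).2 (by exact_mod_cast Nat.card_pos.ne')

/-- A faithful representation modulo a prime. -/
theorem exists_zmod_rep {G : Type*} [Group G] [Finite G] {r : ℕ}
    (R : G →* Matrix (Fin r) (Fin r) ℂ) (hR : Function.Injective R) :
    ∃ (l : ℕ) (_ : Fact l.Prime) (ρ : G →* Matrix (Fin r) (Fin r) (ZMod l)),
      Function.Injective ρ ∧ ¬ l ∣ Nat.card G := by
  classical
  haveI := Fintype.ofFinite G
  obtain ⟨K, iF, iA, iFD, ρK, hρK⟩ := exists_number_field_rep R hR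
  haveI : CharZero K := charZero_of_injective_algebraMap (algebraMap ℚ K).injective
  haveI : Algebra.IsSeparable ℚ K := Algebra.IsAlgebraic.isSeparable_of_perfectField
  obtain ⟨θ₀, hθ₀⟩ := Field.exists_primitive_element ℚ K
  obtain ⟨c, hc, hint'⟩ := exists_integral_multiples ℤ ℚ (L := K) {θ₀}
  have hint : IsIntegral ℤ (c • θ₀) := hint' θ₀ (Finset.mem_singleton_self _)
  set θ := c • θ₀ with hθdef
  -- every element is a polynomial in `θ` over a denominator
  have hgen : ∀ x : K, ∃ (d : ℤ) (P : ℤ[X]), d ≠ 0 ∧ aeval θ P = (d : K) * x := by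
    intro x
    have hx : x ∈ Algebra.adjoin ℚ ({θ} : Set K) := by
      have h1 : x ∈ (IntermediateField.adjoin ℚ {θ₀}).toSubalgebra := by
        rw [hθ₀]; exact Algebra.mem_top
      rw [IntermediateField.adjoin_simple_toSubalgebra_of_isAlgebraic
        (Algebra.IsAlgebraic.isAlgebraic θ₀)] at h1
      refine Algebra.adjoin_le (Set.singleton_subset_iff.2 ?_) h1
      have h2 : θ₀ = ((c : ℚ)⁻¹) • θ := by
        rw [hθdef, ← Int.cast_smul_eq_zsmul ℚ c θ₀, inv_smul_smul₀ (by exact_mod_cast hc)]
      rw [h2]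
      exact Subalgebra.smul_mem _ (Algebra.self_mem_adjoin_singleton ℚ θ) _
    rw [Algebra.adjoin_singleton_eq_range_aeval] at hx
    obtain ⟨p, rfl⟩ := hx
    obtain ⟨b, hb⟩ := IsLocalization.integerNormalization_map_to_map (nonZeroDivisors ℤ) (S := ℚ) p
    refine ⟨b, IsLocalization.integerNormalization (nonZeroDivisors ℤ) p,
      nonZeroDivisors.ne_zero b.2, ?_⟩
    rw [← aeval_map_algebraMap ℚ, hb]
    simp
  choose d P hd0 hP using fun x : G × Fin r × Fin r => hgen (ρK x.1 x.2.1 x.2.2)
  set D := ∏ x, d x with hDdef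
  have hD : D ≠ 0 := Finset.prod_ne_zero_iff.2 fun x _ => hd0 x
  have hmon : (minpoly ℤ θ).Monic := minpoly.monic hint
  obtain ⟨l, hl, hlN, x0, hx0⟩ := exists_prime_root_mod hmon (minpoly.natDegree_pos hint).ne'
    (N := D.natAbs * Nat.card G) (Nat.mul_ne_zero (Int.natAbs_ne_zero.2 hD) Nat.card_pos.ne')
  haveI hlF := Fact.mk hl
  let ι : AdjoinRoot (minpoly ℤ θ) →+* K := AdjoinRoot.lift (algebraMap ℤ K) θ (minpoly.aeval ℤ θ)
  have hιP : ∀ Q : ℤ[X], ι (AdjoinRoot.mk _ Q) = aeval θ Q := fun Q => AdjoinRoot.lift_mk _ Q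
  have hι : Function.Injective ι := by
    refine (injective_iff_map_eq_zero ι).2 fun y hy => ?_
    obtain ⟨Q, rfl⟩ := AdjoinRoot.mk_surjective y
    rw [hιP] at hy
    exact AdjoinRoot.mk_eq_zero.2 (minpoly.isIntegrallyClosed_dvd hint hy)
  haveI : IsDomain (AdjoinRoot (minpoly ℤ θ)) := hι.isDomain ι
  let φ : AdjoinRoot (minpoly ℤ θ) →+* ZMod l :=
    AdjoinRoot.lift (Int.castRingHom (ZMod l)) (x0 : ZMod l) (by
      rw [← eq_intCast (Int.castRingHom (ZMod l)) x0, eval₂_hom, eq_intCast,
        ZMod.intCast_zmod_eq_zero_iff_dvd]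
      exact hx0)
  haveI : (RingHom.ker φ).IsPrime := RingHom.ker_isPrime φ
  let L := Localization.AtPrime (RingHom.ker φ)
  have huι : ∀ y : (RingHom.ker φ).primeCompl, IsUnit (ι y) := fun y =>
    isUnit_iff_ne_zero.2 ((map_ne_zero_iff ι hι).2 fun h => y.2 (by
      show (y : AdjoinRoot (minpoly ℤ θ)) ∈ RingHom.ker φ
      rw [h]; exact zero_mem _))
  have huφ : ∀ y : (RingHom.ker φ).primeCompl, IsUnit (φ y) := fun y => isUnit_iff_ne_zero.2 y.2
  let ιL : L →+* K := IsLocalization.lift huι
  let φL : L →+* ZMod l := IsLocalization.lift huφ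
  have hιL : Function.Injective ιL := by
    refine (IsLocalization.lift_injective_iff _).2 fun a b => ?_
    constructor
    · intro h
      have e := congrArg ιL h
      rwa [IsLocalization.lift_eq, IsLocalization.lift_eq] at e
    · intro h
      rw [hι h]
  have hent : ∀ g i j, ∃ y : L, ιL y = ρK g i j := by
    intro g i j
    have hd : ((d (g, i, j) : ℤ) : AdjoinRoot (minpoly ℤ θ)) ∈ (RingHom.ker φ).primeCompl := by
      intro h
      rw [SetLike.mem_coe, RingHom.mem_ker, map_intCast, ZMod.intCast_zmod_eq_zero_iff_dvd] at h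
      refine hlN (dvd_mul_of_dvd_left (Int.natCast_dvd.1 (h.trans ?_)) _)
      exact Finset.dvd_prod_of_mem _ (Finset.mem_univ _)
    refine ⟨IsLocalization.mk' L (AdjoinRoot.mk _ (P (g, i, j))) ⟨_, hd⟩, ?_⟩
    rw [IsLocalization.lift_mk'_spec, hιP, hP, map_intCast]
  choose y hy using hent
  have hinj : Function.Injective (ιL.mapMatrix : Matrix (Fin r) (Fin r) L →+* _) :=
    fun a b e => Matrix.ext fun i j => hιL (congrFun (congrFun e i) j)
  let τ : G →* Matrix (Fin r) (Fin r) L :=
    { toFun := fun g => Matrix.of fun i j => y g i j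
      map_one' := hinj (by
        ext i j
        show ιL (y 1 i j) = ιL ((1 : Matrix (Fin r) (Fin r) L) i j)
        rw [hy, map_one ρK]
        by_cases h : i = j <;> simp [Matrix.one_apply, h])
      map_mul' := fun a b => hinj (by
        have h1 : ∀ g, ιL.mapMatrix (Matrix.of fun i j => y g i j) = ρK g := fun g => by
          ext i j
          exact hy g i j
        rw [map_mul, h1, h1, h1, map_mul ρK]) }
  have hτ : Function.Injective τ := fun a b h => hρK (by
    ext i j
    rw [← hy a i j, ← hy b i j]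
    exact congrArg ιL (congrFun (congrFun h i) j))
  haveI : IsDomain L := hιL.isDomain ιL
  have hnot : ¬ l ∣ Nat.card G := fun h => hlN (dvd_mul_of_dvd_right h _)
  exact ⟨l, hlF, φL.mapMatrix.toMonoidHom.comp τ,
    injective_mapMatrix φL τ hτ (by rwa [Ne, ZMod.natCast_eq_zero_iff]) , hnot⟩

end CfsgLib.ClassFitting
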