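import Cfsg.Agent.ClassFitting.Sub

/-!
# Groups acting on a group of order `r ^ 2`

A group acting faithfully on an abelian group of order `r ^ 2` has at most `r ^ 2 + r - 3` classes.
-/

set_option autoImplicit false
set_option maxHeartbeats 400000
set_option linter.unusedSectionVars false
set_option linter.style.haveILetI false

namespace CfsgLib.ClassFitting

open SolvKGV

variable {K : Type*} [Group K] [Finite K] {V : Type*} [AddCommGroup V] [DistribMulAction K V]
  [Finite V]

theorem smul_mem_zmultiples {g : K} {v x : V} (hx : x ∈ AddSubgroup.zmultiples v) :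
    ∃ n : ℤ, g • x = n • (g • v) := by
  obtain ⟨n, rfl⟩ := AddSubgroup.mem_zmultiples_iff.1 hx
  exact ⟨n, smul_comm _ _ _⟩

theorem eq_one_of_fix_gen (hf : Faith K V) {S : Set V} (hS : AddSubgroup.closure S = ⊤) {g : K}
    (h : ∀ v ∈ S, g • v = v) : g = 1 :=
  hf g fun v => DFunLike.congr_fun
    (AddMonoidHom.eq_of_eqOn_dense (f := DistribSMul.toAddMonoidHom V g) (g := AddMonoidHom.id V)
      hS h) v

theorem card_le_pred_of_injective {X : Type*} [Finite X] (f : X → V) (hf : Function.Injective f)
    (h0 : ∀ x, f x ≠ 0) : Nat.card X ≤ Nat.card V - 1 := by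
  classical
  haveI := Fintype.ofFinite V
  refine (Nat.card_le_card_of_injective (fun x => (⟨f x, h0 x⟩ : {v : V // v ≠ 0})) fun a b e =>
    hf (congrArg Subtype.val e)).trans (le_of_eq ?_)
  rw [Nat.card_eq_fintype_card, Nat.card_eq_fintype_card, Fintype.card_subtype_compl,
    Fintype.card_subtype_eq]

/-- At most `r ^ 2 + r - 3` classes on a group of order `r ^ 2`. -/
theorem k_le_sq_prime (hf : Faith K V) {r : ℕ} (hr : r.Prime) (hV : Nat.card V = r ^ 2) :
    Nat.card (ConjClasses K) + 3 ≤ r ^ 2 + r := by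
  classical
  have hr2 := hr.two_le
  haveI : Nontrivial V := Finite.one_lt_card_iff_nontrivial.1
    (hV ▸ Nat.one_lt_pow two_ne_zero hr.one_lt)
  have hsmul0 : ∀ (g : K) (v : V), v ≠ 0 → g • v ≠ 0 := fun g v hv e => hv (by
    rw [← inv_smul_smul g v, e, smul_zero])
  have hsmall : Nat.card K ≤ r ^ 2 - 1 → Nat.card (ConjClasses K) + 3 ≤ r ^ 2 + r := fun h => by
    have := k_le_card K
    have : 1 ≤ r ^ 2 := Nat.one_le_pow _ _ hr.pos
    omega
  by_cases hcyc : ∃ v : V, AddSubgroup.zmultiples v = ⊤
  · obtain ⟨v, hv⟩ := hcyc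
    have hgen : AddSubgroup.closure {v} = ⊤ := by rw [← AddSubgroup.zmultiples_eq_closure, hv]
    have hv0 : v ≠ 0 := by
      rintro rfl
      rw [AddSubgroup.zmultiples_zero_eq_bot] at hv
      exact bot_ne_top hv
    refine hsmall ((card_le_pred_of_injective (fun g : K => g • v) (fun a b e => ?_)
      fun g => hsmul0 g v hv0).trans (by rw [hV]))
    have e' : a • v = b • v := e
    refine inv_mul_eq_one.1 (eq_one_of_fix_gen hf hgen ?_)
    rintro w rfl
    rw [mul_smul, ← e', inv_smul_smul]
  push Not at hcyc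
  have hzc : ∀ v : V, v ≠ 0 → Nat.card (AddSubgroup.zmultiples v) = r := by
    intro v hv
    have hd := (AddSubgroup.zmultiples v).card_addSubgroup_dvd_card
    rw [hV] at hd
    obtain ⟨j, hj, e⟩ := (Nat.dvd_prime_pow hr).1 hd
    rcases (by omega : j = 0 ∨ j = 1 ∨ j = 2) with rfl | rfl | rfl
    · rw [pow_zero] at e
      exact absurd (AddSubgroup.zmultiples_eq_bot.1 (AddSubgroup.card_eq_one.1 e)) hv
    · rw [e, pow_one]
    · exact absurd (AddSubgroup.eq_top_of_card_eq _ (e.trans hV.symm)) (hcyc v)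
  have hind : ∀ v w : V, v ≠ 0 → w ∉ AddSubgroup.zmultiples v →
      AddSubgroup.closure {v, w} = ⊤ := by
    intro v w hv hw
    set U := AddSubgroup.closure ({v, w} : Set V) with hU
    have hvU : AddSubgroup.zmultiples v ≤ U :=
      AddSubgroup.zmultiples_le.2 (AddSubgroup.subset_closure (Set.mem_insert _ _))
    have hd := U.card_addSubgroup_dvd_card
    rw [hV] at hd
    obtain ⟨j, hj, e⟩ := (Nat.dvd_prime_pow hr).1 hd
    have hne : AddSubgroup.zmultiples v ≠ U := fun he => hw (he ▸
      AddSubgroup.subset_closure (Set.mem_insert_of_mem _ rfl))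
    by_contra htop
    have hlt : Nat.card U ≤ Nat.card (AddSubgroup.zmultiples v) := by
      rw [hzc v hv, e]
      rcases (by omega : j = 0 ∨ j = 1 ∨ j = 2) with rfl | rfl | rfl
      · simpa using hr.one_le
      · simp
      · exact absurd (AddSubgroup.eq_top_of_card_eq _ (e.trans hV.symm)) htop
    exact hne (AddSubgroup.eq_of_le_of_card_ge hvU hlt)
  have hcross : ∀ v w : V, v ≠ 0 → w ∉ AddSubgroup.zmultiples v → ∀ m : ℤ,
      m • w ∈ AddSubgroup.zmultiples v → m • w = 0 := by
    intro v w hv hw m hm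
    by_contra hne
    have hle : AddSubgroup.zmultiples (m • w) ≤ AddSubgroup.zmultiples w :=
      AddSubgroup.zmultiples_le.2 (AddSubgroup.zsmul_mem_zmultiples w m)
    have hw0 : w ≠ 0 := fun e => hw (e ▸ zero_mem _)
    have he := AddSubgroup.eq_of_le_of_card_ge hle (by rw [hzc _ hne, hzc _ hw0])
    exact hw (AddSubgroup.zmultiples_le.2 hm (he.ge (AddSubgroup.mem_zmultiples w)))
  -- scalar elements
  let Sc : K → Prop := fun g => ∀ v : V, g • v ∈ AddSubgroup.zmultiples v
  have hline : ∀ g, Sc g → ∀ v w : V, v ≠ 0 → w ∉ AddSubgroup.zmultiples v →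
      ∃ c : ℤ, g • v = c • v ∧ g • w = c • w := by
    intro g hg v w hv hw
    obtain ⟨a, ha⟩ := AddSubgroup.mem_zmultiples_iff.1 (hg v)
    obtain ⟨b, hb⟩ := AddSubgroup.mem_zmultiples_iff.1 (hg w)
    obtain ⟨c, hc⟩ := AddSubgroup.mem_zmultiples_iff.1 (hg (v + w))
    rw [smul_add, smul_add, ← ha, ← hb] at hc
    have hbw : (b - c) • w = (c - a) • v := by
      rw [sub_smul, sub_smul, sub_eq_sub_iff_add_eq_add, hc, add_comm]
    have h0 := hcross v w hv hw _
      (hbw ▸ AddSubgroup.zsmul_mem_zmultiples v (c - a))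
    refine ⟨c, ?_, ?_⟩
    · rw [hbw, sub_smul, sub_eq_zero] at h0
      rw [← ha, h0]
    · rw [sub_smul, sub_eq_zero] at h0
      rw [← hb, h0]
  have hScfix : ∀ g, Sc g → ∀ v : V, v ≠ 0 → g • v = v → g = 1 := by
    intro g hg v hv hgv
    refine hf g fun w => ?_
    by_cases hw : w ∈ AddSubgroup.zmultiples v
    · obtain ⟨n, rfl⟩ := AddSubgroup.mem_zmultiples_iff.1 hw
      rw [smul_comm, hgv]
    · obtain ⟨c, hcv, hcw⟩ := hline g hg v w hv hw
      have hdiv : (r : ℤ) ∣ c - 1 := by
        have h1 : (c - 1) • v = 0 := by rw [sub_smul, one_smul, ← hcv, hgv, sub_self]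
        rw [← hzc v hv, Nat.card_zmultiples]
        exact addOrderOf_dvd_iff_zsmul_eq_zero.2 h1
      have h2 : (c - 1) • w = 0 := by
        rw [← addOrderOf_dvd_iff_zsmul_eq_zero]
        by_cases hw0 : w = 0
        · simp [hw0]
        · rwa [← Nat.card_zmultiples, hzc w hw0]
      rw [sub_smul, one_smul, sub_eq_zero] at h2
      rw [hcw, h2]
  have hcent : ∀ g, ¬ Sc g → ∃ v : V, v ≠ 0 ∧ AddSubgroup.closure {v, g • v} = ⊤ := by
    intro g hg
    obtain ⟨v, hv⟩ := not_forall.1 hg
    have hv0 : v ≠ 0 := fun e => hv (by rw [e, smul_zero]; exact zero_mem _)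
    exact ⟨v, hv0, hind v _ hv0 hv⟩
  have hCle : ∀ g, ¬ Sc g → Nat.card (Subgroup.centralizer ({g} : Set K)) ≤ r ^ 2 - 1 := by
    intro g hg
    obtain ⟨v, hv, hgen⟩ := hcent g hg
    refine (card_le_pred_of_injective (fun c : Subgroup.centralizer ({g} : Set K) => (c : K) • v)
      (fun a b e => ?_) fun c => hsmul0 _ v hv).trans (by rw [hV])
    refine Subtype.ext (inv_mul_eq_one.1 (eq_one_of_fix_gen hf hgen ?_))
    have e' : (a : K) • v = (b : K) • v := e
    rintro x (rfl | rfl)
    · show ((a : K)⁻¹ * b) • x = x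
      rw [mul_smul, ← e', inv_smul_smul]
    · show ((a : K)⁻¹ * b) • g • v = g • v
      have hc : (a : K)⁻¹ * b * g = g * ((a : K)⁻¹ * b) :=
        (Subgroup.mem_centralizer_singleton_iff.1 ((Subgroup.centralizer ({g} : Set K)).mul_mem
          ((Subgroup.centralizer _).inv_mem a.2) b.2))
      rw [← mul_smul, hc, mul_smul, mul_smul, ← e', inv_smul_smul]
  by_cases hall : ∀ g, Sc g
  · obtain ⟨v, hv⟩ := exists_ne (0 : V)
    refine hsmall ((card_le_pred_of_injective (fun g : K => g • v) (fun a b e => ?_)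
      fun g => hsmul0 g v hv).trans (by rw [hV]))
    have e' : a • v = b • v := e
    refine inv_mul_eq_one.1 (hScfix _ (hall _) v hv ?_)
    rw [mul_smul, ← e', inv_smul_smul]
  obtain ⟨g₀, hg₀⟩ := not_forall.1 hall
  by_cases hab : ∀ a b : K, a * b = b * a
  · refine hsmall (le_trans (le_of_eq ?_) (hCle g₀ hg₀))
    have : Subgroup.centralizer ({g₀} : Set K) = ⊤ :=
      eq_top_iff.2 fun x _ => Subgroup.mem_centralizer_singleton_iff.2 (hab x g₀)
    rw [this, Subgroup.card_top]
  -- central elements are scalars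
  have hZsc : ∀ z ∈ Subgroup.center K, Sc z := by
    intro z hz
    by_contra hns
    obtain ⟨v, hv, hgen⟩ := hcent z hns
    refine hab fun a b => ?_
    have hcm : ∀ (c : K) (x : V), c • z • x = z • c • x := fun c x => by
      rw [← mul_smul, Subgroup.mem_center_iff.1 hz c, mul_smul]
    have hrep : ∀ c : K, ∃ α β : ℤ, c • v = α • v + β • (z • v) := fun c => by
      obtain ⟨α, β, h⟩ := AddSubgroup.mem_closure_pair.1
        (show c • v ∈ AddSubgroup.closure {v, z • v} by rw [hgen]; exact AddSubgroup.mem_top _)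
      exact ⟨α, β, h.symm⟩
    obtain ⟨α, β, hc⟩ := hrep a
    obtain ⟨α', β', hd⟩ := hrep b
    have hkey : (a * b) • v = (b * a) • v := by
      rw [mul_smul, mul_smul, hd, hc]
      simp only [smul_add, smul_comm a α', smul_comm a β', smul_comm b α, smul_comm b β, hcm a,
        hcm b, hc, hd, smul_comm z α', smul_comm z β', smul_comm z α, smul_comm z β]
      simp only [smul_smul, mul_comm α' α, mul_comm β' β, mul_comm α' β, mul_comm β' α]
      abel
    refine (inv_mul_eq_one.1 (eq_one_of_fix_gen hf hgen ?_)).symm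
    rintro x (rfl | rfl)
    · show ((b * a)⁻¹ * (a * b)) • x = x
      rw [mul_smul, hkey, inv_smul_smul]
    · show ((b * a)⁻¹ * (a * b)) • z • v = z • v
      rw [hcm, mul_smul, hkey, inv_smul_smul]
  have hZ : Nat.card (Subgroup.center K) ≤ r - 1 := by
    obtain ⟨v, hv⟩ := exists_ne (0 : V)
    let f : Subgroup.center K → AddSubgroup.zmultiples v := fun z =>
      ⟨(z : K) • v, hZsc z z.2 v⟩
    have hfi : Function.Injective f := fun a b e => by
      have e' : (a : K) • v = (b : K) • v := congrArg Subtype.val e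
      refine Subtype.ext (inv_mul_eq_one.1 (hScfix _ (hZsc _
        ((Subgroup.center K).mul_mem ((Subgroup.center K).inv_mem a.2) b.2)) v hv ?_))
      rw [mul_smul, ← e', inv_smul_smul]
    have hlt : Nat.card (Subgroup.center K) < Nat.card (AddSubgroup.zmultiples v) := by
      haveI := Fintype.ofFinite (Subgroup.center K)
      haveI := Fintype.ofFinite (AddSubgroup.zmultiples v)
      rw [Nat.card_eq_fintype_card, Nat.card_eq_fintype_card]
      exact Fintype.card_lt_of_injective_of_notMem f hfi (b := 0) fun ⟨z, hz⟩ =>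
        hsmul0 z v hv (congrArg Subtype.val hz)
    rw [hzc v hv] at hlt
    omega
  haveI := Fintype.ofFinite K
  have hsum := k_mul_card_eq_sum K
  set C := r ^ 2 - 1 with hC
  have hle : ∀ g : K, Nat.card (Subgroup.centralizer ({g} : Set K)) ≤
      (if g ∈ Subgroup.center K then Nat.card K else 0) +
      (if g ∈ Subgroup.center K then 0 else C) := by
    intro g
    by_cases hg : g ∈ Subgroup.center K
    · rw [if_pos hg, if_pos hg, add_zero]
      exact Nat.le_of_dvd Nat.card_pos (Subgroup.card_subgroup_dvd_card _)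
    · rw [if_neg hg, if_neg hg, zero_add]
      refine hCle g fun hsc => hg (Subgroup.mem_center_iff.2 fun h => ?_)
      obtain ⟨v, hv⟩ := exists_ne (0 : V)
      refine inv_mul_eq_one.1 (hf _ fun w => ?_)
      have : ∀ x : V, g • h • x = h • g • x := by
        intro x
        by_cases hx : x = 0
        · simp [hx]
        by_cases hhx : h • x ∈ AddSubgroup.zmultiples x
        · obtain ⟨n, hn⟩ := AddSubgroup.mem_zmultiples_iff.1 hhx
          obtain ⟨m, hm⟩ := AddSubgroup.mem_zmultiples_iff.1 (hsc x)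
          rw [← hn, ← hm, smul_comm g n, smul_comm h m, ← hn, ← hm, smul_comm n m]
        · obtain ⟨c, h1, h2⟩ := hline g hsc x _ hx hhx
          rw [h2, h1, smul_comm]
      rw [mul_smul, inv_smul_eq_iff, mul_smul, mul_smul, this]
  have hsum' := Finset.sum_le_sum (s := Finset.univ) fun g (_ : g ∈ (Finset.univ : Finset K)) =>
    hle g
  rw [← hsum, Finset.sum_add_distrib, ← Finset.sum_filter] at hsum'
  simp only [Finset.sum_const, smul_eq_mul] at hsum'
  have hsplit : (Finset.univ : Finset K).sum (fun g => if g ∈ Subgroup.center K then 0 else C) =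
      (Finset.univ.filter fun g : K => g ∉ Subgroup.center K).card * C := by
    rw [Finset.sum_ite, Finset.sum_const_zero, zero_add, Finset.sum_const, smul_eq_mul]
  rw [hsplit] at hsum'
  have hcard : (Finset.univ.filter fun g : K => g ∈ Subgroup.center K).card =
      Nat.card (Subgroup.center K) := by
    rw [← Fintype.card_subtype, ← Nat.card_eq_fintype_card]
  have htot := Finset.card_filter_add_card_filter_not (s := (Finset.univ : Finset K))
    (p := fun g => g ∈ Subgroup.center K)
  rw [Finset.card_univ, hcard] at htot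
  rw [hcard] at hsum'
  have hZ0 : 0 < Nat.card (Subgroup.center K) := Nat.card_pos
  have hC0 : 0 < C := by have := Nat.one_lt_pow two_ne_zero hr.one_lt; omega
  rw [Nat.card_eq_fintype_card (α := K)] at hsum'
  set z := Nat.card (Subgroup.center K)
  set d := (Finset.univ.filter fun g : K => g ∉ Subgroup.center K).card
  set n := Fintype.card K
  have hlt : Nat.card (ConjClasses K) < z + C := by
    refine Nat.lt_of_mul_lt_mul_right (a := n) (lt_of_le_of_lt hsum' ?_)
    rw [add_mul, ← htot]
    nlinarith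
  omega

theorem subK_sq_prime (hf : Faith K V) {r : ℕ} (hr : r.Prime) (hV : Nat.card V = r ^ 2) :
    SubK K (r ^ 2 + r - 3) := fun L => by
  have := k_le_sq_prime (faith_subgroup hf L) hr hV
  omega

end CfsgLib.ClassFitting
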