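import Cfsg.Agent.ClassFitting.Step
import Cfsg.Agent.ClassFitting.SqPrime

/-!
# Small modules

Bounds for all subgroups on modules of order `p`, `8`, `16` and `36`.
-/

set_option autoImplicit false
set_option maxHeartbeats 800000
set_option linter.unusedSectionVars false
set_option linter.style.haveILetI false

namespace CfsgLib.ClassFitting

open SolvKGV

universe u

variable {H : Type u} [Group H] [Finite H] {V : Type u} [AddCommGroup V] [DistribMulAction H V]
  [Finite V]

theorem subK_prime (hf : Faith H V) (h : (Nat.card V).Prime) : SubK H (Nat.card V - 1) :=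
  subK_of_card_le (card_le_of_prime hf h)

theorem subK_four (hf : Faith H V) (h : Nat.card V = 4) : SubK H 3 :=
  subK_sq_prime hf Nat.prime_two h

theorem subK_nine (hf : Faith H V) (h : Nat.card V = 9) : SubK H 9 :=
  subK_sq_prime hf Nat.prime_three h

/-- The data in characteristic two. -/
theorem prim_two {P : Prim H V} {k : ℕ} (hk : 1 ≤ k) (hV : Nat.card V = 2 ^ k) :
    P.e * P.m = k ∧ Nat.card P.A < 2 ^ P.e ∧ ¬ 2 ∣ Nat.card P.A := by
  have hpn : P.p ^ (P.e * P.m) = 2 ^ k := by rw [← P.card_eq, hV]
  have hp2 : P.p = 2 := (Nat.prime_dvd_prime_iff_eq P.prime Nat.prime_two).1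
    (P.prime.dvd_of_dvd_pow (n := k) (hpn ▸ dvd_pow_self _
      (Nat.mul_ne_zero (by have := P.e_pos; omega) (by have := P.m_pos; omega))))
  rw [hp2] at hpn
  exact ⟨Nat.pow_right_injective le_rfl hpn, hp2 ▸ P.card_lt, hp2 ▸ P.not_dvd⟩

/-- The subgroups of a semilinear group. -/
theorem k_semilinear (P : Prim H V) (hC : Subgroup.centralizer (P.A : Set H) = P.A) (s b : ℕ)
    (hodd : ¬ 2 ∣ Nat.card P.A) (hs : ∀ d, d ∣ Nat.card P.A → d < Nat.card P.A → d ≤ s)
    (hes : P.e * s ≤ b) (hb : Nat.card P.A + s + 2 * s * (P.e - 1) ≤ 2 * b + 1)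
    (hab : Nat.card P.A ≤ b) : SubK H b := by
  haveI := P.normalA
  intro K
  set B := P.A.subgroupOf K with hB
  have hidx : B.index ≤ P.e := by
    have h := P.index_le
    rw [hC] at h
    exact le_trans (Nat.le_of_dvd (Nat.pos_of_ne_zero Subgroup.index_ne_zero_of_finite)
      (Subgroup.relIndex_dvd_index_of_normal P.A K)) h
  have hBA : Nat.card B = Nat.card (P.A ⊓ K : Subgroup H) := by
    rw [hB, ← Subgroup.inf_subgroupOf_right,
      Nat.card_congr (Subgroup.subgroupOfEquivOfLe inf_le_right).toEquiv]
  have hdvd : Nat.card B ∣ Nat.card P.A := hBA ▸ Subgroup.card_dvd_of_le inf_le_left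
  have hK : Nat.card K = Nat.card B * B.index := (B.card_mul_index).symm
  by_cases hlt : Nat.card B < Nat.card P.A
  · refine (k_le_card K).trans ?_
    rw [hK, mul_comm]
    exact (Nat.mul_le_mul hidx (hs _ hdvd hlt)).trans hes
  have hAK : P.A ≤ K := by
    have h : P.A ⊓ K = P.A := Subgroup.eq_of_le_of_card_ge inf_le_left
      (hBA ▸ not_lt.1 hlt)
    exact inf_eq_left.1 h
  have hcomm : ∀ a ∈ B, ∀ c ∈ B, a * c = c * a := fun a ha c hc =>
    Subtype.ext (P.comm a ha c hc)
  have hself : Subgroup.centralizer (B : Set K) = B := by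
    refine le_antisymm (fun g hg => ?_) fun g hg => Subgroup.mem_centralizer_iff.2 fun c hc =>
      hcomm c hc g hg
    show (g : H) ∈ P.A
    rw [← hC, Subgroup.mem_centralizer_iff]
    intro a ha
    exact congrArg Subtype.val (Subgroup.mem_centralizer_iff.1 hg ⟨a, hAK ha⟩ ha)
  have hcB : Nat.card B = Nat.card P.A := le_antisymm (Nat.le_of_dvd Nat.card_pos hdvd) (not_lt.1 hlt)
  have h := two_mul_k_le B hcomm hself s fun D hD => by
    refine hs _ (hcB ▸ Subgroup.card_dvd_of_le hD.le) (hcB ▸ ?_)
    exact lt_of_not_ge fun hge => hD.ne (Subgroup.eq_of_le_of_card_ge hD.le hge)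
  rw [hcB] at h
  have hsi : 2 * s * (B.index - 1) ≤ 2 * s * (P.e - 1) :=
    Nat.mul_le_mul_left _ (Nat.sub_le_sub_right hidx 1)
  rcases le_max_iff.1 h with h | h <;> omega

theorem no_inner {P : Prim H V} (hA : Nat.card P.A = 1) (I : Inner P) : False := by
  obtain ⟨r, hr, hrM⟩ := Nat.exists_prime_and_dvd (show I.M ≠ 1 by have := I.two_le; omega)
  have h := I.prime_dvd r hr hrM
  rw [hA, Nat.dvd_one] at h
  exact hr.ne_one h

variable [Group.IsSolvable H]

theorem subK_eight (hs : Semi H V) (hf : Faith H V) (h8 : Nat.card V = 8) : SubK H 13 := by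
  classical
  haveI : Nontrivial V := Finite.one_lt_card_iff_nontrivial.1 (by omega)
  by_cases hd : ∃ r, Nonempty (Decomp H V r)
  · obtain ⟨r, ⟨D⟩⟩ := hd
    let G : ℕ → ℕ := fun k => if k = 2 then 1 else 3
    have hpart : ∀ i, Nat.card (D.part i) = 2 ∨ Nat.card (D.part i) = 4 := fun i => by
      have h1 := D.one_lt_card_part i
      have h2 := D.card_part_lt i
      have h3 := card_part_dvd D i
      rw [h8] at h2 h3
      interval_cases hk : Nat.card (D.part i) <;> omega
    have hyp : ∀ i, SubK ((⊤ : Subgroup D.perm.ker).map (D.rep i)) (G (Nat.card (D.part i))) := by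
      intro i
      rcases hpart i with h | h <;> norm_num [G, h]
      · have := subK_prime (H := (⊤ : Subgroup D.perm.ker).map (D.rep i)) (faith_units _)
          (h ▸ Nat.prime_two)
        rwa [h] at this
      · exact subK_four (faith_units _) h
    refine (subK_decomp hf D _ hyp).mono ?_
    have hr : r ≤ 3 := by
      have h : 2 ^ r ≤ Nat.card V := by
        rw [D.card_eq]
        refine le_trans (le_of_eq ?_) (Finset.prod_le_prod' fun i _ => D.one_lt_card_part i)
        simp
      rw [h8, show 8 = 2 ^ 3 by norm_num] at h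
      exact (Nat.pow_le_pow_iff_right (by norm_num : 1 < 2)).1 h
    have h2 := D.two
    have hprod := D.card_eq
    rw [h8] at hprod
    rcases (by omega : r = 2 ∨ r = 3) with rfl | rfl
    · rw [Fin.prod_univ_two] at hprod ⊢
      rcases hpart 0 with a | a <;> rcases hpart 1 with b | b <;>
        rw [a, b] at hprod <;> first | (norm_num at hprod; done) | norm_num [G, a, b]
    · rw [Fin.prod_univ_three] at hprod ⊢
      rcases hpart 0 with a | a <;> rcases hpart 1 with b | b <;> rcases hpart 2 with c | c <;>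
        rw [a, b, c] at hprod <;> first | (norm_num at hprod; done) | norm_num [G, a, b, c]
  · obtain ⟨P⟩ := exists_prim (fun r D => hd ⟨r, ⟨D⟩⟩) hs hf
    obtain ⟨hem, hlt, hodd⟩ := prim_two (P := P) (k := 3) (by norm_num) h8
    have he : P.e = 1 ∨ P.e = 3 := by
      have h := hem ▸ dvd_mul_right P.e P.m
      exact (Nat.dvd_prime Nat.prime_three).1 h
    by_cases hC : Subgroup.centralizer (P.A : Set H) = P.A
    · rcases he with e | e <;> rw [e] at hlt
      · refine (subK_abelian P hC).mono ?_
        rw [e]; norm_num at hlt; omega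
      · norm_num at hlt
        refine k_semilinear P hC 1 13 hodd (fun d hd hdlt => ?_) (by rw [e]; norm_num)
          (by rw [e]; omega) (by omega)
        obtain ⟨j, hj⟩ := hd
        rcases (by omega : j = 0 ∨ j = 1 ∨ j = 2 ∨ 3 ≤ j) with rfl | rfl | rfl | hj3
        · omega
        · omega
        · omega
        · have : d * 3 ≤ d * j := Nat.mul_le_mul_left _ hj3
          rcases (by omega : d = 0 ∨ d = 1 ∨ d = 2) with rfl | rfl | rfl <;> omega
    · obtain ⟨I⟩ := exists_inner P hC
      rcases he with e | e <;> rw [e] at hlt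
      · exact (no_inner (by norm_num at hlt; have := P.card_pos_A; omega) I).elim
      · have := I.le_m
        have := I.two_le
        rw [e] at hem
        omega

theorem subK_sixteen (hs : Semi H V) (hf : Faith H V) (h16 : Nat.card V = 16) : SubK H 27 := by
  classical
  haveI : Nontrivial V := Finite.one_lt_card_iff_nontrivial.1 (by omega)
  by_cases hd : ∃ r, Nonempty (Decomp H V r)
  · obtain ⟨r, ⟨D⟩⟩ := hd
    let G : ℕ → ℕ := fun k => if k = 2 then 1 else if k = 4 then 3 else 13
    have hpart : ∀ i, Nat.card (D.part i) = 2 ∨ Nat.card (D.part i) = 4 ∨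
        Nat.card (D.part i) = 8 := fun i => by
      have h1 := D.one_lt_card_part i
      have h2 := D.card_part_lt i
      have h3 := card_part_dvd D i
      rw [h16] at h2 h3
      interval_cases hk : Nat.card (D.part i) <;> omega
    have hyp : ∀ i, SubK ((⊤ : Subgroup D.perm.ker).map (D.rep i)) (G (Nat.card (D.part i))) := by
      intro i
      haveI := D.isSolvable_map i ⊤
      rcases hpart i with h | h | h <;> norm_num [G, h]
      · have := subK_prime (H := (⊤ : Subgroup D.perm.ker).map (D.rep i)) (faith_units _)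
          (h ▸ Nat.prime_two)
        rwa [h] at this
      · exact subK_four (faith_units _) h
      · exact subK_eight (D.semi_rep hs i ⊤) (faith_units _) h
    refine (subK_decomp hf D _ hyp).mono ?_
    have hr : r ≤ 4 := by
      have h : 2 ^ r ≤ Nat.card V := by
        rw [D.card_eq]
        refine le_trans (le_of_eq ?_) (Finset.prod_le_prod' fun i _ => D.one_lt_card_part i)
        simp
      rw [h16, show 16 = 2 ^ 4 by norm_num] at h
      exact (Nat.pow_le_pow_iff_right (by norm_num : 1 < 2)).1 h
    have h2 := D.two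
    have hprod := D.card_eq
    rw [h16] at hprod
    rcases (by omega : r = 2 ∨ r = 3 ∨ r = 4) with rfl | rfl | rfl
    · rw [Fin.prod_univ_two] at hprod ⊢
      rcases hpart 0 with a | a | a <;> rcases hpart 1 with b | b | b <;>
        rw [a, b] at hprod <;> first | (norm_num at hprod; done) | norm_num [G, a, b]
    · rw [Fin.prod_univ_three] at hprod ⊢
      rcases hpart 0 with a | a | a <;> rcases hpart 1 with b | b | b <;>
        rcases hpart 2 with c | c | c <;> rw [a, b, c] at hprod <;>
        first | (norm_num at hprod; done) | norm_num [G, a, b, c]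
    · rw [Fin.prod_univ_four] at hprod ⊢
      rcases hpart 0 with a | a | a <;> rcases hpart 1 with b | b | b <;>
        rcases hpart 2 with c | c | c <;> rcases hpart 3 with d | d | d <;>
        rw [a, b, c, d] at hprod <;> first | (norm_num at hprod; done) | norm_num [G, a, b, c, d]
  · obtain ⟨P⟩ := exists_prim (fun r D => hd ⟨r, ⟨D⟩⟩) hs hf
    obtain ⟨hem, hlt, hodd⟩ := prim_two (P := P) (k := 4) (by norm_num) h16
    have he : P.e = 1 ∨ P.e = 2 ∨ P.e = 4 := by
      have h := hem ▸ dvd_mul_right P.e P.m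
      have h' := Nat.le_of_dvd (by norm_num) h
      have := P.e_pos
      interval_cases hk : P.e <;> omega
    by_cases hC : Subgroup.centralizer (P.A : Set H) = P.A
    · rcases he with e | e | e <;> rw [e] at hlt <;> norm_num at hlt
      · refine (subK_abelian P hC).mono ?_
        rw [e]; omega
      · refine (subK_abelian P hC).mono ?_
        rw [e]; omega
      · refine k_semilinear P hC 5 27 hodd (fun d hd hdlt => ?_) (by rw [e]; norm_num)
          (by rw [e]; omega) (by omega)
        obtain ⟨j, hj⟩ := hd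
        rcases (by omega : j = 0 ∨ j = 1 ∨ j = 2 ∨ 3 ≤ j) with rfl | rfl | rfl | hj3
        · omega
        · omega
        · omega
        · have : d * 3 ≤ d * j := Nat.mul_le_mul_left _ hj3
          omega
    · obtain ⟨I⟩ := exists_inner P hC
      rcases he with e | e | e <;> rw [e] at hlt <;> norm_num at hlt
      · exact (no_inner (by have := P.card_pos_A; omega) I).elim
      · have hM : I.M = 2 := by
          have := I.le_m
          have := I.two_le
          rw [e] at hem
          omega
        exact absurd (I.prime_dvd 2 Nat.prime_two (by rw [hM])) hodd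
      · have := I.le_m
        have := I.two_le
        rw [e] at hem
        omega

omit [Group.IsSolvable H] in
/-- The annihilator of `a`. -/
theorem subK_thirtySix (hf : Faith H V) (h36 : Nat.card V = 36) : SubK H (3 * 9) := by
  have h0 : ∀ v : V, (36 : ℕ) • v = 0 := fun v => h36 ▸ card_nsmul_eq_zero'
  let U : ℕ → AddSubgroup V := fun n =>
    { carrier := {v | n • v = 0}
      zero_mem' := nsmul_zero n
      add_mem' := fun ha hb => by
        show n • (_ + _) = 0
        rw [nsmul_add, ha, hb, add_zero]
      neg_mem' := fun ha => by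
        show n • -_ = 0
        rw [smul_neg, ha, neg_zero] }
  have hinv : ∀ n, IsInv H (U n) := fun n h u hu => by
    show n • (h • u) = 0
    rw [smul_comm, show n • u = 0 from hu, smul_zero]
  have hdec : ∀ v : V, ∀ a ∈ U 4, ∀ b ∈ U 9, v = a + b → a = 9 • v ∧ b = 28 • v := by
    intro v a ha b hb e
    have ha' : (4 : ℕ) • a = 0 := ha
    have hb' : (9 : ℕ) • b = 0 := hb
    subst e
    constructor
    · rw [nsmul_add, hb', add_zero, show 9 = 1 + 2 * 4 by norm_num, add_nsmul, mul_nsmul',
        ha', nsmul_zero, add_zero, one_nsmul]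
    · rw [nsmul_add, show 28 = 7 * 4 by norm_num, mul_nsmul', ha', nsmul_zero, zero_add,
        show 7 * 4 = 1 + 3 * 9 by norm_num, add_nsmul, mul_nsmul', hb', nsmul_zero, add_zero,
        one_nsmul]
  have h9 : ∀ v : V, 9 • v ∈ U 4 := fun v => by
    show (4 : ℕ) • (9 • v) = 0
    rw [← mul_nsmul']; exact h0 v
  have h28 : ∀ v : V, 28 • v ∈ U 9 := fun v => by
    show (9 : ℕ) • (28 • v) = 0
    rw [← mul_nsmul', show 9 * 28 = 7 * 36 by norm_num, mul_nsmul', h0, nsmul_zero]
  have hsum : ∀ v : V, 9 • v + 28 • v = v := fun v => by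
    rw [← add_nsmul, show 9 + 28 = 1 + 36 by norm_num, add_nsmul, one_nsmul, h0, add_zero]
  let e : V ≃ U 4 × U 9 :=
    { toFun := fun v => (⟨9 • v, h9 v⟩, ⟨28 • v, h28 v⟩)
      invFun := fun x => (x.1 : V) + x.2
      left_inv := hsum
      right_inv := fun x => by
        obtain ⟨h1, h2⟩ := hdec _ _ x.1.2 _ x.2.2 rfl
        exact Prod.ext (Subtype.ext h1.symm) (Subtype.ext h2.symm) }
  have hprod : Nat.card (U 4) * Nat.card (U 9) = 36 := by
    rw [← Nat.card_prod, ← Nat.card_congr e, h36]
  have hno : ∀ n q : ℕ, q.Prime → ¬ q ∣ n → ¬ q ∣ Nat.card (U n) := by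
    intro n q hq hqn hdvd
    haveI := Fact.mk hq
    obtain ⟨x, hx⟩ := exists_prime_addOrderOf_dvd_card' q hdvd
    have h1 : n • x = 0 := Subtype.ext x.2
    exact hqn (hx ▸ addOrderOf_dvd_of_nsmul_eq_zero h1)
  have h4 : Nat.card (U 4) = 4 ∧ Nat.card (U 9) = 9 := by
    have h3 := hno 4 3 Nat.prime_three (by norm_num)
    have h2 := hno 9 2 Nat.prime_two (by norm_num)
    have hle : Nat.card (U 4) ≤ 36 := Nat.le_of_dvd (by norm_num) (Dvd.intro _ hprod)
    generalize Nat.card (U 4) = a at *
    generalize Nat.card (U 9) = b at *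
    interval_cases a <;> omega
  letI := subAction (hinv 4)
  letI := subAction (hinv 9)
  set f := repHom H (U 4)
  refine SubK.of_hom f (subK_four (faith_units _) h4.1) (subK_nine (V := U 9) (fun g hg => ?_) h4.2)
  refine Subtype.ext (hf _ fun v => ?_)
  have h1 : (g : H) • (⟨9 • v, h9 v⟩ : U 4) = ⟨9 • v, h9 v⟩ :=
    (repHom_eq_one_iff (g : H)).1 g.2 _
  have h2 : g • (⟨28 • v, h28 v⟩ : U 9) = ⟨28 • v, h28 v⟩ := hg _
  rw [← hsum v, smul_add]
  exact congrArg₂ (· + ·) (congrArg Subtype.val h1) (congrArg Subtype.val h2)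

end CfsgLib.ClassFitting
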