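import Cfsg.Agent.ClassFitting.Sub

/-!
# The steps of the recursion

Bounds for all subgroups of a linear group from a decomposition, from a maximal normal abelian
subgroup and from the inner part.
-/

set_option autoImplicit false
set_option maxHeartbeats 400000
set_option linter.unusedSectionVars false
set_option linter.style.haveILetI false

namespace CfsgLib.ClassFitting

open SolvKGV

universe u

variable {H : Type u} [Group H] [Finite H] {V : Type u} [AddCommGroup V] [DistribMulAction H V]
  [Finite V]

/-- The bound along a decomposition. -/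
theorem subK_decomp (hf : Faith H V) {r : ℕ} (D : Decomp H V r) (c : Fin r → ℕ)
    (hc : ∀ i, SubK ((⊤ : Subgroup D.perm.ker).map (D.rep i)) (c i)) :
    SubK H (2 ^ (r - 1) * ∏ i, c i) := by
  refine SubK.of_hom D.perm (subK_perm.of_injective (Subgroup.subtype_injective _)) ?_
  refine (subK_pi r c hc).of_injective
    (f := Pi.monoidHom fun i => (D.rep i).codRestrict ((⊤ : Subgroup D.perm.ker).map (D.rep i))
      fun x => ⟨x, Subgroup.mem_top x, rfl⟩) ?_
  refine (injective_iff_map_eq_one _).2 fun x hx => D.rep_faith hf x fun i => ?_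
  exact congrArg Subtype.val (congrFun hx i)

/-- The bound for a self-centralising maximal normal abelian subgroup. -/
theorem subK_abelian (P : Prim H V) (hC : Subgroup.centralizer (P.A : Set H) = P.A) :
    SubK H (P.e * Nat.card P.A) := by
  refine subK_of_card_le ?_
  rw [← P.A.card_mul_index, mul_comm]
  refine Nat.mul_le_mul_right _ ?_
  have h := P.index_le
  rwa [hC] at h

/-- The bound through the inner part. -/
theorem subK_inner [Group.IsSolvable H] {P : Prim H V} (I : Inner P) {b : ℕ} (h : SubK I.f.range b) :
    SubK H (P.e * (b * (Nat.card P.A * I.M ^ 2))) := by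
  haveI := P.normalA
  haveI : (Subgroup.centralizer (P.A : Set H)).Normal := inferInstance
  refine SubK.of_hom (QuotientGroup.mk' (Subgroup.centralizer (P.A : Set H)))
    ((subK_of_card_le P.card_quot).of_injective (Subgroup.subtype_injective _)) ?_
  rw [QuotientGroup.ker_mk']
  refine SubK.of_hom I.f h (subK_of_card_le ?_)
  rw [I.card_kernel, I.card_B]

/-- A self-centralising abelian normal subgroup with small proper subgroups. -/
theorem two_mul_k_le {G : Type*} [Group G] [Finite G] (B : Subgroup G) [B.Normal]
    (hcomm : ∀ a ∈ B, ∀ b ∈ B, a * b = b * a) (hself : Subgroup.centralizer (B : Set G) = B)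
    (s : ℕ) (hs : ∀ D : Subgroup G, D < B → Nat.card D ≤ s) :
    2 * Nat.card (ConjClasses G) ≤ max (2 * Nat.card B) (Nat.card B + s + 2 * s * (B.index - 1)) := by
  classical
  haveI := Fintype.ofFinite G
  by_cases hZB : B ≤ Subgroup.center G
  · have htop : B = ⊤ := by
      refine eq_top_iff.2 fun g _ => hself ▸ Subgroup.mem_centralizer_iff.2 fun b hb => ?_
      exact (Subgroup.mem_center_iff.1 (hZB hb) g).symm
    refine le_trans ?_ (le_max_left _ _)
    have := k_le_card G
    have e : Nat.card B = Nat.card G := by rw [htop, Subgroup.card_top]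
    omega
  refine le_trans ?_ (le_max_right _ _)
  have hcB : Subgroup.center G ≤ B := fun z hz => hself ▸
    Subgroup.mem_centralizer_iff.2 fun b _ => Subgroup.mem_center_iff.1 hz b
  have hZs : Nat.card (Subgroup.center G) ≤ s := hs _ (lt_of_le_not_ge hcB hZB)
  set n := Nat.card G with hn
  have hin : ∀ g ∈ B, 2 * Nat.card (Subgroup.centralizer ({g} : Set G)) ≤
      n + if g ∈ Subgroup.center G then n else 0 := by
    intro g _
    set C := Subgroup.centralizer ({g} : Set G)
    have hmul := C.card_mul_index
    by_cases hg : g ∈ Subgroup.center G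
    · rw [if_pos hg]
      have := Nat.le_of_dvd Nat.card_pos C.card_subgroup_dvd_card
      omega
    · rw [if_neg hg, add_zero]
      have h1 : C.index ≠ 1 := fun e => hg (Subgroup.mem_center_iff.2 fun x =>
        Subgroup.mem_centralizer_singleton_iff.1
          (show x ∈ C by rw [Subgroup.index_eq_one.1 e]; exact Subgroup.mem_top x))
      have h2 : 2 ≤ C.index := by
        have := Subgroup.index_ne_zero_of_finite (H := C)
        omega
      calc 2 * Nat.card C ≤ C.index * Nat.card C := Nat.mul_le_mul_right _ h2
        _ = _ := by rw [mul_comm, hmul]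
  have hout : ∀ g ∉ B, Nat.card (Subgroup.centralizer ({g} : Set G)) ≤ s * B.index := by
    intro g hg
    set C := Subgroup.centralizer ({g} : Set G)
    have hlt : C ⊓ B < B := lt_of_le_not_ge inf_le_right fun hle => hg (hself ▸
      Subgroup.mem_centralizer_iff.2 fun b hb =>
        Subgroup.mem_centralizer_singleton_iff.1 (hle hb).1)
    have h1 := Subgroup.card_eq_card_quotient_mul_card_subgroup (B.subgroupOf C)
    have h2 : Nat.card (B.subgroupOf C) = Nat.card (C ⊓ B : Subgroup G) := by
      rw [← Subgroup.inf_subgroupOf_left,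
        Nat.card_congr (Subgroup.subgroupOfEquivOfLe inf_le_left).toEquiv]
    have h3 : Nat.card (C ⧸ B.subgroupOf C) ≤ B.index := by
      rw [← Subgroup.index_eq_card]
      exact Nat.le_of_dvd (Nat.pos_of_ne_zero Subgroup.index_ne_zero_of_finite)
        (Subgroup.relIndex_dvd_index_of_normal B C)
    rw [h1, h2, mul_comm]
    exact Nat.mul_le_mul (hs _ hlt) h3
  have hle : ∀ g : G, 2 * Nat.card (Subgroup.centralizer ({g} : Set G)) ≤
      ((if g ∈ B then n else 0) + if g ∈ Subgroup.center G then n else 0) +
        if g ∈ B then 0 else 2 * (s * B.index) := by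
    intro g
    by_cases hg : g ∈ B
    · rw [if_pos hg, if_pos hg, add_zero]
      exact hin g hg
    · rw [if_neg hg, if_neg hg]
      have := hout g hg
      omega
  have hsum := Finset.sum_le_sum (s := Finset.univ) fun g (_ : g ∈ (Finset.univ : Finset G)) =>
    hle g
  have hswap : ∀ g : G, (if g ∈ B then 0 else 2 * (s * B.index)) =
      if g ∉ B then 2 * (s * B.index) else 0 := fun g => by split_ifs <;> rfl
  simp only [hswap] at hsum
  rw [← Finset.mul_sum, ← k_mul_card_eq_sum, Finset.sum_add_distrib, Finset.sum_add_distrib,
    ← Finset.sum_filter, ← Finset.sum_filter, ← Finset.sum_filter] at hsum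
  simp only [Finset.sum_const, smul_eq_mul] at hsum
  have e1 : (Finset.univ.filter fun g : G => g ∈ B).card = Nat.card B := by
    rw [← Fintype.card_subtype, ← Nat.card_eq_fintype_card]
  have e2 : (Finset.univ.filter fun g : G => g ∈ Subgroup.center G).card =
      Nat.card (Subgroup.center G) := by
    rw [← Fintype.card_subtype, ← Nat.card_eq_fintype_card]
  have e3 : (Finset.univ.filter fun g : G => g ∉ B).card = (B.index - 1) * Nat.card B := by
    have h := Finset.card_filter_add_card_filter_not (s := (Finset.univ : Finset G))
      (p := fun g => g ∈ B)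
    rw [Finset.card_univ, e1, ← Nat.card_eq_fintype_card, ← B.card_mul_index] at h
    rw [Nat.sub_one_mul, mul_comm]
    omega
  rw [e1, e2, e3] at hsum
  refine Nat.le_of_mul_le_mul_right (c := n) ?_ Nat.card_pos
  calc 2 * Nat.card (ConjClasses G) * n = 2 * (Nat.card (ConjClasses G) * n) := by ring
    _ ≤ _ := hsum
    _ ≤ Nat.card B * n + s * n + (B.index - 1) * Nat.card B * (2 * (s * B.index)) :=
      Nat.add_le_add_right (Nat.add_le_add_left (Nat.mul_le_mul_right _ hZs) _) _
    _ = _ := by rw [hn, ← B.card_mul_index]; ring

end CfsgLib.ClassFitting
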