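import Cfsg.Agent.SolvKGV.KBound

/-!
# Class numbers of all subgroups

`SubK Q b`: every subgroup of `Q` has at most `b` conjugacy classes.
-/

set_option autoImplicit false
set_option maxHeartbeats 400000
set_option linter.unusedSectionVars false
set_option linter.style.haveILetI false

namespace CfsgLib.ClassFitting

open SolvKGV

universe u v w

/-- Every subgroup has at most `b` classes. -/
def SubK (Q : Type*) [Group Q] (b : ℕ) : Prop :=
  ∀ K : Subgroup Q, Nat.card (ConjClasses K) ≤ b

theorem k_le_card (G : Type*) [Group G] [Finite G] : Nat.card (ConjClasses G) ≤ Nat.card G :=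
  Nat.card_le_card_of_surjective _ ConjClasses.mk_surjective

theorem k_le_of_surjective {G H : Type*} [Group G] [Group H] [Finite G] (f : G →* H)
    (hf : Function.Surjective f) : Nat.card (ConjClasses H) ≤ Nat.card (ConjClasses G) :=
  Nat.card_le_card_of_surjective _ (ConjClasses.map_surjective hf)

theorem k_congr {G H : Type*} [Group G] [Group H] [Finite G] (e : G ≃* H) :
    Nat.card (ConjClasses G) = Nat.card (ConjClasses H) :=
  haveI : Finite H := Finite.of_equiv G e.toEquiv
  le_antisymm (k_le_of_surjective e.symm.toMonoidHom e.symm.surjective)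
    (k_le_of_surjective e.toMonoidHom e.surjective)

variable {Q : Type*} [Group Q] [Finite Q] {b : ℕ}

theorem SubK.mono (h : SubK Q b) {c : ℕ} (hbc : b ≤ c) : SubK Q c := fun K => (h K).trans hbc

theorem subK_card : SubK Q (Nat.card Q) := fun K =>
  (k_le_card K).trans (Nat.le_of_dvd Nat.card_pos K.card_subgroup_dvd_card)

theorem subK_of_card_le (h : Nat.card Q ≤ b) : SubK Q b := subK_card.mono h

theorem SubK.of_injective {Q' : Type*} [Group Q'] [Finite Q'] {f : Q' →* Q}
    (hf : Function.Injective f) (h : SubK Q b) : SubK Q' b := fun K =>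
  (k_congr (K.equivMapOfInjective f hf)).le.trans (h _)

theorem SubK.of_surjective {Q' : Type*} [Group Q'] [Finite Q'] {f : Q →* Q'}
    (hf : Function.Surjective f) (h : SubK Q b) : SubK Q' b := fun K =>
  (k_le_of_surjective (f.subgroupComap K) (f.subgroupComap_surjective_of_surjective K hf)).trans
    (h (K.comap f))

/-- The bounds multiply along a homomorphism. -/
theorem SubK.of_hom {Q' : Type*} [Group Q'] [Finite Q'] (f : Q →* Q') {b₁ b₂ : ℕ}
    (h₁ : SubK f.range b₁) (h₂ : SubK f.ker b₂) : SubK Q (b₁ * b₂) := fun K => by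
  set g : K →* f.range := f.rangeRestrict.comp K.subtype with hg
  refine (card_conjClasses_le_mul g.rangeRestrict_surjective).trans (Nat.mul_le_mul (h₁ _) ?_)
  rw [MonoidHom.ker_rangeRestrict]
  let j : g.ker →* f.ker := (K.subtype.comp g.ker.subtype).codRestrict f.ker fun x => by
    have h : g x = 1 := x.2
    exact MonoidHom.mem_ker.2 (congrArg Subtype.val h)
  have hj : Function.Injective j := fun x y e =>
    Subtype.ext (Subtype.ext (congrArg (fun z : f.ker => (z : Q)) e))
  exact (k_congr (MonoidHom.ofInjective hj)).le.trans (h₂ _)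

theorem subK_pi : ∀ (r : ℕ) {E : Fin r → Type w} [∀ i, Group (E i)] [∀ i, Finite (E i)]
    (c : Fin r → ℕ), (∀ i, SubK (E i) (c i)) → SubK (∀ i, E i) (∏ i, c i) := by
  intro r
  induction r with
  | zero =>
    intro E _ _ c _
    refine subK_of_card_le ?_
    simp
  | succ r ih =>
    intro E _ _ c h
    rw [Fin.prod_univ_succ]
    refine SubK.of_hom (Pi.evalMonoidHom E 0) ((h 0).of_injective (Subgroup.subtype_injective _)) ?_
    refine (ih (E := fun i => E i.succ) (fun i => c i.succ) fun i => h _).of_injective
      (f := (Pi.monoidHom fun i => Pi.evalMonoidHom E i.succ).comp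
        (Pi.evalMonoidHom E 0).ker.subtype) ?_
    intro x y e
    refine Subtype.ext (funext fun i => ?_)
    refine Fin.cases ?_ (fun j => congrFun e j) i
    have hx : (x : ∀ i, E i) 0 = 1 := x.2
    have hy : (y : ∀ i, E i) 0 = 1 := y.2
    rw [hx, hy]

/-- A permutation group of degree `r`. -/
theorem subK_perm {r : ℕ} : SubK (Equiv.Perm (Fin r)) (2 ^ (r - 1)) := fun K => by
  have h := ClassBound.card_conjClasses_le_two_pow (G := K) (α := Fin r)
  rwa [Fintype.card_fin] at h

/-- The class number times the order is the sum of the orders of the centralisers. -/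
theorem k_mul_card_eq_sum (G : Type*) [Group G] [Fintype G] :
    Nat.card (ConjClasses G) * Nat.card G =
      ∑ g : G, Nat.card (Subgroup.centralizer ({g} : Set G)) := by
  classical
  rw [← P2_eq, P2, Nat.card_congr (Equiv.subtypeProdEquivSigmaSubtype fun g h : G => g * h = h * g),
    Nat.card_sigma]
  refine Finset.sum_congr rfl fun g _ => Nat.card_congr (Equiv.subtypeEquivRight fun h => ?_)
  rw [Subgroup.mem_centralizer_singleton_iff]
  exact eq_comm

end CfsgLib.ClassFitting
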